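import Groth.Agent.Lib.VarDim.Normal
import Mathlib.AlgebraicGeometry.ZariskisMainTheorem
import Mathlib.AlgebraicGeometry.Morphisms.LocalIso

/-!
# The relative normalization of a normal integral scheme along a quasi-finite morphism
-/

set_option autoImplicit false
set_option backward.isDefEq.respectTransparency false
set_option backward.isDefEq.respectTransparency.types false
set_option linter.style.haveILetI false
universe u

open CategoryTheory AlgebraicGeometry TopologicalSpace

namespace Groth.Agent.Pur13

variable {X Y : Scheme.{u}}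

/-- In a normal integral scheme sections on a smaller open that are integral over the base extend. -/
theorem exists_extend [IsIntegral X] (hN : ∀ x : X, IsIntegrallyClosed (X.presheaf.stalk x)) (f : X ⟶ Y)
    {V : Y.Opens} {U : X.Opens} [Nonempty U] (hUV : U ≤ f ⁻¹ᵁ V) (a : Γ(X, U))
    (ha : (f.appLE V U hUV).hom.IsIntegralElem a) :
    ∃ a' : Γ(X, f ⁻¹ᵁ V), X.presheaf.map (homOfLE hUV).op a' = a ∧ (f.app V).hom.IsIntegralElem a' := by
  haveI : Nonempty (f ⁻¹ᵁ V : X.Opens) := ⟨⟨_, hUV (Classical.arbitrary U).2⟩⟩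
  have hres : ∀ b : Γ(X, f ⁻¹ᵁ V), X.germToFunctionField U (X.presheaf.map (homOfLE hUV).op b) =
      X.germToFunctionField (f ⁻¹ᵁ V) b := fun b => TopCat.Presheaf.germ_res_apply X.presheaf _ _ _ _
  have hcomp : (X.germToFunctionField U).hom.comp (f.appLE V U hUV).hom =
      (X.germToFunctionField (f ⁻¹ᵁ V)).hom.comp (f.app V).hom := RingHom.ext fun b => hres (f.app V b)
  obtain ⟨p, hm, hp⟩ := ha
  have hp' : p.eval₂ ((X.germToFunctionField (f ⁻¹ᵁ V)).hom.comp (f.app V).hom)
      (X.germToFunctionField U a) = 0 := by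
    rw [← hcomp, ← Polynomial.hom_eval₂, hp, map_zero]
  obtain ⟨a', ha'⟩ := VarDim.exists_section_of_integral hN (f ⁻¹ᵁ V) (X.germToFunctionField U a)
    ⟨p.map (f.app V).hom, hm.map _, by rw [Polynomial.eval₂_map]; exact hp'⟩
  refine ⟨a', X.germToFunctionField_injective U ((hres a').trans ha'), p, hm, ?_⟩
  apply X.germToFunctionField_injective (f ⁻¹ᵁ V)
  show (X.germToFunctionField (f ⁻¹ᵁ V)).hom _ = (X.germToFunctionField (f ⁻¹ᵁ V)).hom 0
  rw [Polynomial.hom_eval₂, map_zero]
  erw [ha']
  exact hp'

/-- The sections of the normalization restricted to a smaller open of the source. -/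
theorem appLE_toNormalization_injective_and_range [IsIntegral X]
    (hN : ∀ x : X, IsIntegrallyClosed (X.presheaf.stalk x)) (f : X ⟶ Y) [QuasiCompact f] [QuasiSeparated f]
    {V : Y.Opens} (hV : IsAffineOpen V) {U : X.Opens} [Nonempty U] (hUV : U ≤ f ⁻¹ᵁ V)
    (e : U ≤ f.toNormalization ⁻¹ᵁ f.fromNormalization ⁻¹ᵁ V) :
    Function.Injective (f.toNormalization.appLE (f.fromNormalization ⁻¹ᵁ V) U e) ∧
      ∀ a, (f.appLE V U hUV).hom.IsIntegralElem a →
        ∃ s, f.toNormalization.appLE (f.fromNormalization ⁻¹ᵁ V) U e s = a := by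
  letI := (f.app V).hom.toAlgebra
  haveI : Nonempty (f ⁻¹ᵁ V : X.Opens) := ⟨⟨_, hUV (Classical.arbitrary U).2⟩⟩
  have hle : f ⁻¹ᵁ V ≤ f.toNormalization ⁻¹ᵁ f.fromNormalization ⁻¹ᵁ V := by
    simp [← Scheme.Hom.comp_preimage]
  have h : f.toNormalization.appLE (f.fromNormalization ⁻¹ᵁ V) U e =
      (f.normalizationObjIso hV).hom ≫ CommRingCat.ofHom (Subalgebra.val _).toRingHom ≫
        X.presheaf.map (homOfLE hUV).op := by
    rw [← Category.assoc, f.normalizationObjIso_hom_val hV, Scheme.Hom.appLE_map]
  constructor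
  · intro s t hst
    rw [h] at hst
    exact (ConcreteCategory.bijective_of_isIso (f.normalizationObjIso hV).hom).1
      (Subtype.ext (map_injective_of_isIntegral X (homOfLE hUV) hst))
  · intro a ha
    obtain ⟨a', ha', hint⟩ := exists_extend hN f hUV a ha
    refine ⟨(f.normalizationObjIso hV).inv ⟨a', hint⟩, ?_⟩
    rw [h]
    have h1 : (f.normalizationObjIso hV).hom ((f.normalizationObjIso hV).inv ⟨a', hint⟩) = ⟨a', hint⟩ :=
      ConcreteCategory.congr_hom (f.normalizationObjIso hV).inv_hom_id _
    simp only [CommRingCat.comp_apply, h1]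
    exact ha'

theorem exists_nhd_isOpenImmersion_toNormalization [IsIntegral X]
    (hN : ∀ x : X, IsIntegrallyClosed (X.presheaf.stalk x)) (f : X ⟶ Y)
    [LocallyQuasiFinite f] [LocallyOfFiniteType f] [QuasiCompact f] [QuasiSeparated f] (x : X) :
    ∃ U : X.Opens, x ∈ U ∧ IsOpenImmersion (U.ι ≫ f.toNormalization) := by
  obtain ⟨V, hV, hxV, -⟩ := exists_isAffineOpen_mem_and_subset (U := (⊤ : Y.Opens)) (x := f x) trivial
  obtain ⟨U, hU, hxU, hUV⟩ := exists_isAffineOpen_mem_and_subset (U := f ⁻¹ᵁ V) (x := x) hxV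
  replace hUV : U ≤ f ⁻¹ᵁ V := hUV
  refine ⟨U, hxU, ?_⟩
  haveI : Nonempty U := ⟨⟨x, hxU⟩⟩
  set W := f.fromNormalization ⁻¹ᵁ V with hWdef
  have hW : IsAffineOpen W := hV.preimage _
  have e : U ≤ f.toNormalization ⁻¹ᵁ W := by
    rw [hWdef, ← Scheme.Hom.comp_preimage, f.toNormalization_fromNormalization]; exact hUV
  haveI : IsAffine U := hU
  haveI : IsAffine V := hV
  haveI : IsAffine W := hW
  let g := f.resLE V U hUV
  have hgι : g ≫ V.ι = U.ι ≫ f := Scheme.Hom.resLE_comp_ι _ _
  haveI : LocallyOfFiniteType (g ≫ V.ι) := by rw [hgι]; infer_instance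
  haveI : LocallyQuasiFinite (g ≫ V.ι) := by rw [hgι]; infer_instance
  haveI : LocallyOfFiniteType g := locallyOfFiniteType_of_comp g V.ι
  haveI : LocallyQuasiFinite g := LocallyQuasiFinite.of_comp g V.ι
  let τU := f.toNormalization.resLE W U e
  let πV := f.fromNormalization.resLE V W le_rfl
  haveI : IsIntegralHom πV := by
    have h1 : IsIntegralHom (f.fromNormalization ∣_ V) := IsZariskiLocalAtTarget.restrict (P := @IsIntegralHom) (inferInstanceAs (IsIntegralHom f.fromNormalization)) V
    rw [← Scheme.Hom.resLE_eq_morphismRestrict] at h1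
    exact h1
  have hfac : g = τU ≫ πV := by
    simp only [g, τU, πV, Scheme.Hom.resLE_comp_resLE, f.toNormalization_fromNormalization]
  let j := g.normalizationDesc τU πV hfac
  haveI : IsAffine g.normalization := isAffine_of_isAffineHom g.fromNormalization
  have hj : g.toNormalization ≫ j = τU := g.toNormalization_normalizationDesc _ _ _
  obtain ⟨hinj, hrange⟩ := appLE_toNormalization_injective_and_range hN f hV hUV e
  have hτapp : τU.appTop = W.topIso.hom ≫ f.toNormalization.appLE W U e ≫ U.topIso.inv :=
    Scheme.Hom.resLE_app_top _ _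
  have hginj : Function.Injective g.toNormalization.appTop := by
    letI := (g.app ⊤).hom.toAlgebra
    intro s t hst
    have h := g.normalizationObjIso_hom_val (isAffineOpen_top V.toScheme)
    have h1 : ∀ e' s, g.toNormalization.appLE (g.fromNormalization ⁻¹ᵁ ⊤) (g ⁻¹ᵁ ⊤) e' s = g.toNormalization.appTop s :=
      fun e' s => by
        show g.toNormalization.appLE ⊤ (g.toNormalization ⁻¹ᵁ ⊤) le_rfl s = _
        rw [Scheme.Hom.appLE_eq_app]
        rfl
    have h2 := ConcreteCategory.congr_hom h
    refine (ConcreteCategory.bijective_of_isIso (g.normalizationObjIso (isAffineOpen_top V.toScheme)).hom).1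
      (Subtype.ext ?_)
    exact (h2 s).trans ((h1 _ s).trans (hst.trans ((h1 _ t).symm.trans (h2 t).symm)))
  haveI : IsIso j.appTop := by
    rw [ConcreteCategory.isIso_iff_bijective]
    have hc : ∀ s, g.toNormalization.appTop (j.appTop s) = τU.appTop s := fun s => by
      rw [← hj]; rfl
    refine ⟨fun s t hst => ?_, fun s => ?_⟩
    · have h1 : τU.appTop s = τU.appTop t := by rw [← hc, ← hc, hst]
      rw [hτapp] at h1
      exact (ConcreteCategory.bijective_of_isIso W.topIso.hom).1 (hinj
        ((ConcreteCategory.bijective_of_isIso U.topIso.inv).1 h1))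
    · let a : Γ(X, U) := U.topIso.hom (g.toNormalization.appTop s)
      have hint : (f.appLE V U hUV).hom.IsIntegralElem a := by
        obtain ⟨p, hm, hp⟩ := g.fromNormalization.isIntegral_app ⊤ (isAffineOpen_top _) s
        refine ⟨p.map V.topIso.hom.hom, hm.map _, ?_⟩
        rw [Polynomial.eval₂_map]
        have h0 := congrArg (fun r => U.topIso.hom (g.toNormalization.appTop r)) hp
        simp only [map_zero] at h0
        rw [← CommRingCat.comp_apply, Polynomial.hom_eval₂] at h0
        refine Eq.trans ?_ h0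
        have key : g.fromNormalization.app ⊤ ≫ g.toNormalization.appTop ≫ U.topIso.hom =
            V.topIso.hom ≫ f.appLE V U hUV := by
          rw [← Category.assoc]
          have e1 : g.fromNormalization.app ⊤ ≫ g.toNormalization.appTop = g.appTop := by
            simp only [Scheme.Hom.appTop]
            conv_rhs => rw [Scheme.Hom.congr_app g.toNormalization_fromNormalization.symm ⊤]
            simp
            erw [Category.comp_id]
            try rfl
          rw [e1]
          show (f.resLE V U hUV).app ⊤ ≫ _ = _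
          rw [Scheme.Hom.resLE_app_top]
          simp
        congr 1
        exact congrArg CommRingCat.Hom.hom key.symm
      obtain ⟨s', hs'⟩ := hrange a hint
      refine ⟨W.topIso.inv s', hginj ?_⟩
      rw [hc, hτapp]
      simp only [CommRingCat.comp_apply]
      erw [ConcreteCategory.congr_hom W.topIso.inv_hom_id s', hs']
      exact ConcreteCategory.congr_hom U.topIso.hom_inv_id _
  haveI : IsIso j := (HasAffineProperty.iff_of_isAffine (P := MorphismProperty.isomorphisms Scheme)).2 ⟨inferInstance, inferInstance⟩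
  have : U.ι ≫ f.toNormalization = g.toNormalization ≫ j ≫ W.ι := by
    rw [← Category.assoc, hj]; exact (Scheme.Hom.resLE_comp_ι _ _).symm
  rw [this]
  infer_instance

theorem isLocalIso_toNormalization [IsIntegral X]
    (hN : ∀ x : X, IsIntegrallyClosed (X.presheaf.stalk x)) (f : X ⟶ Y)
    [LocallyQuasiFinite f] [LocallyOfFiniteType f] [QuasiCompact f] [QuasiSeparated f] :
    IsLocalIso f.toNormalization :=
  ⟨exists_nhd_isOpenImmersion_toNormalization hN f⟩

theorem isOpenImmersion_toNormalization_iff (f : X ⟶ Y)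
    [LocallyQuasiFinite f] [LocallyOfFiniteType f] [QuasiCompact f] [QuasiSeparated f] :
    IsOpenImmersion f.toNormalization ↔ IsSeparated f := by
  refine ⟨fun _ => ?_, fun _ => inferInstance⟩
  rw [← f.toNormalization_fromNormalization]
  infer_instance

end Groth.Agent.Pur13
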